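import Groth.Agent.ResProp.EF.K348.HB
import Groth.Agent.Localalg.LCBasic
import Mathlib.CategoryTheory.Abelian.Projective.Dimension
import Mathlib.Algebra.Category.ModuleCat.Projective
import Mathlib.RingTheory.Ideal.Operations
import Mathlib.RingTheory.Polynomial.Basic

/-!
# Cohomological dimension of the ideal of maximal minors of the generic `(n+1) x n` matrix, characteristic `p`

`cdLE_two`: `H^i_I(M) = 0` for `i ≥ 3` and all modules `M` (Peskine - Szpiro).
-/

set_option autoImplicit false
set_option linter.unusedSectionVars false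

universe u

open CategoryTheory Groth.Agent.Localalg.LCBasic Groth.Agent.ResProp.EF.K348.HB

namespace Groth.Agent.ResProp.EF.K348.CD

section general

variable {S : Type u} [CommRing S] {n : ℕ} (N : Matrix (Fin (n + 1)) (Fin n) S)

/-- The ideal of the maximal minors. -/
def J : Ideal S := Ideal.span (Set.range (mnr N))

lemma mnr_mem (i : Fin (n + 1)) : mnr N i ∈ J N := Ideal.subset_span ⟨i, rfl⟩

/-- `v ↦ ∑ mnr_i v_i` onto the ideal of minors. -/
def toJ : (Fin (n + 1) → S) →ₗ[S] J N :=
  LinearMap.codRestrict (J N) (∑ i, (mnr N i) • (LinearMap.proj i : (Fin (n + 1) → S) →ₗ[S] S)) fun v => by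
    rw [LinearMap.sum_apply]
    exact Submodule.sum_mem _ fun i _ => Ideal.mul_mem_right _ _ (mnr_mem N i)

lemma toJ_apply (v : Fin (n + 1) → S) : (toJ N v : S) = ∑ i, mnr N i * v i := by
  rw [toJ, LinearMap.codRestrict_apply, LinearMap.sum_apply]
  rfl

lemma toJ_surjective : Function.Surjective (toJ N) := by
  rintro ⟨x, hx⟩
  obtain ⟨c, hc⟩ := (Ideal.mem_span_range_iff_exists_fun).1 hx
  refine ⟨c, Subtype.ext ?_⟩
  rw [toJ_apply]
  change _ = x
  rw [← hc]
  exact Finset.sum_congr rfl fun i _ => mul_comm _ _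

variable [IsDomain S] [DecompositionMonoid S] (r s : Fin (n + 1)) (hr : mnr N r ≠ 0)
  (hrs : IsRelPrime (mnr N r) (mnr N s))

include hr hrs

lemma exact_toJ : Function.Exact N.mulVecLin (toJ N) := by
  intro v
  constructor
  · intro h
    have h1 : ∑ i, mnr N i * v i = 0 := by rw [← toJ_apply, h]; rfl
    exact exists_mulVec_eq N r s hr hrs v h1
  · rintro ⟨c, rfl⟩
    apply Subtype.ext
    rw [toJ_apply]
    exact sum_mnr_mulVec N c

lemma hasProjectiveDimensionLT_J : HasProjectiveDimensionLT (ModuleCat.of S (J N)) 2 := by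
  have hse := sc_shortExact (N.mulVecLin) (toJ N) (mulVec_injective N r hr) (toJ_surjective N)
    (exact_toJ N r s hr hrs)
  have h1 : Projective (ModuleCat.of S (Fin n → S)) := (IsProjective.iff_projective _).1 inferInstance
  have h2 : Projective (ModuleCat.of S (Fin (n + 1) → S)) := (IsProjective.iff_projective _).1 inferInstance
  have h3 : HasProjectiveDimensionLT (ModuleCat.of S (Fin n → S)) 1 := inferInstance
  have h4 : HasProjectiveDimensionLT (ModuleCat.of S (Fin (n + 1) → S)) 1 := inferInstance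
  have h5 : HasProjectiveDimensionLT (ModuleCat.of S (Fin (n + 1) → S)) 2 :=
    hasProjectiveDimensionLT_of_ge _ 1 2 (by omega)
  exact hse.hasProjectiveDimensionLT_X₃ 1 h3 h5

lemma hasProjectiveDimensionLT_quot : HasProjectiveDimensionLT (ModuleCat.of S (S ⧸ J N)) 3 := by
  have hse := sc_shortExact (R := S) (J N).subtype (J N).mkQ (Submodule.injective_subtype _)
    (Submodule.mkQ_surjective _) (LinearMap.exact_subtype_mkQ _)
  have h1 := hasProjectiveDimensionLT_J N r s hr hrs
  have h2 : Projective (ModuleCat.of S S) := (IsProjective.iff_projective _).1 inferInstance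
  have h4 : HasProjectiveDimensionLT (ModuleCat.of S S) 1 := inferInstance
  have h5 : HasProjectiveDimensionLT (ModuleCat.of S S) 3 := hasProjectiveDimensionLT_of_ge _ 1 3 (by omega)
  exact hse.hasProjectiveDimensionLT_X₃ 2 h1 h5

end general

section cofinal

variable {S : Type u} [CommRing S]

/-- A cofinal system of ideals with quotients of projective dimension `< d` bounds the cohomological dimension. -/
theorem subsingleton_of_cofinal (I : Ideal S) (hI : I.FG) (d : ℕ)
    (h : ∀ m : ℕ, ∃ K : Ideal S, K ≤ I ^ m ∧ I ≤ K.radical ∧ HasProjectiveDimensionLT (ModuleCat.of S (S ⧸ K)) d)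
    (M : Type u) [AddCommGroup M] [Module S M] (i : ℕ) (hi : d ≤ i) : Subsingleton (LocCoh.H I i M) := by
  have key : ∀ y : LocCoh.H I i M, y = 0 := by
    intro y
    obtain ⟨m, x, rfl⟩ := toH_exists I i y
    obtain ⟨K, hK, hIK, hpd⟩ := h m
    obtain ⟨m', hm'⟩ := Ideal.exists_pow_le_of_le_radical_of_fg hIK hI
    rw [toH_eq_zero_iff]
    refine ⟨max m m', le_max_left _ _, ?_⟩
    let a : stage I (max m m') ⟶ ModuleCat.of S (S ⧸ K) :=
      ModuleCat.ofHom (Submodule.mapQ (I ^ (max m m')) K LinearMap.id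
        ((Ideal.pow_le_pow_right (le_max_right m m')).trans hm'))
    let b : ModuleCat.of S (S ⧸ K) ⟶ stage I m := ModuleCat.ofHom (Submodule.mapQ K (I ^ m) LinearMap.id hK)
    have hab : stageMap I (le_max_left m m') = a ≫ b := by
      ext
      rfl
    have hx : (Abelian.Ext.mk₀ b).comp x (zero_add i) = 0 :=
      Abelian.Ext.eq_zero_of_hasProjectiveDimensionLT _ d hi
    rw [hab, ← Abelian.Ext.mk₀_comp_mk₀_assoc, hx, Abelian.Ext.comp_zero]
  exact ⟨fun y z => (key y).trans (key z).symm⟩

end cofinal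

section generic

variable (k : Type u) [Field k] (n : ℕ)

/-- **Peskine - Szpiro for the maximal minors of the generic `(n+1) x n` matrix.** -/
theorem cdLE_two (p : ℕ) [Fact p.Prime] [CharP k p] :
    LocCoh.CdLE (MvPolynomial (Fin (n + 1) × Fin n) k) (J (gen k n)) 2 := by
  intro M _ _ i hi
  have hEC : ExpChar k p := ExpChar.prime Fact.out
  refine subsingleton_of_cofinal (J (gen k n)) (IsNoetherian.noetherian _) 3 (fun m => ?_) M i hi
  refine ⟨J (genq k n p m), ?_, ?_, ?_⟩
  · rw [J, Ideal.span_le]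
    rintro _ ⟨i, rfl⟩
    rw [mnr_genq]
    have h1 : mnr (gen k n) i ^ p ^ m ∈ J (gen k n) ^ p ^ m := Ideal.pow_mem_pow (mnr_mem _ _) _
    exact Ideal.pow_le_pow_right (Nat.lt_pow_self (Nat.Prime.one_lt Fact.out)).le h1
  · rw [J, Ideal.span_le]
    rintro _ ⟨i, rfl⟩
    refine ⟨p ^ m, ?_⟩
    rw [← mnr_genq]
    exact mnr_mem _ _
  · exact hasProjectiveDimensionLT_quot _ 0 (Fin.last n) (mnr_genq_ne_zero k n p m) (isRelPrime_mnr_genq k n p m)

end generic

end Groth.Agent.ResProp.EF.K348.CD
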