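import Groth.Agent.ResProp.EF.K348.CD
import Groth.Agent.Pi1C.CechModel

/-!
# The extended Čech complex of the maximal minors of the generic `(n+1) x n` matrix is exact in degrees `≥ 3`
(characteristic `p`, arbitrary modules)
-/

set_option autoImplicit false

universe u

open Groth.Agent.Pi1C.CechAll Groth.Agent.ResProp.EF.K348.HB Groth.Agent.ResProp.EF.K348.CD

namespace Groth.Agent.ResProp.EF.K348.ECThree

/-- If `cd(S, I) ≤ c` the extended Čech complex of a family of generators of `I` is exact in degrees `> c`. -/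
theorem exact_of_cdLE {S : Type u} [CommRing S] [IsNoetherianRing S] {ι : Type} [Finite ι] (g : ι → S) (c : ℕ)
    (h : LocCoh.CdLE S (Ideal.span (Set.range g)) c) (N : Type u) [AddCommGroup N] [Module S N] (j : ℕ) (hj : c ≤ j)
    (x : EC g N (j + 1)) (hx : d g N (j + 1) x = 0) : ∃ y : EC g N j, d g N j y = x := by
  obtain ⟨e⟩ := Groth.Agent.Pi1C.CechModel.equiv_H g _ rfl N j
  have hs : Subsingleton (LocCoh.H (Ideal.span (Set.range g)) (j + 1) N) := h N (j + 1) (by omega)
  have h1 : Submodule.Quotient.mk (p := (LinearMap.range (d g N j)).submoduleOf (LinearMap.ker (d g N (j + 1))))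
      (⟨x, hx⟩ : LinearMap.ker (d g N (j + 1))) = 0 := e.injective (Subsingleton.elim _ _)
  rw [Submodule.Quotient.mk_eq_zero] at h1
  exact h1

/-- The extended Čech complex of the maximal minors of the generic `(n+1) x n` matrix is exact in degree `3`. -/
theorem exact_three (F : Type u) [Field F] (p : ℕ) [Fact p.Prime] [CharP F p] (n : ℕ)
    (N : Type u) [AddCommGroup N] [Module (MvPolynomial (Fin (n + 1) × Fin n) F) N]
    (x : EC (mnr (gen F n)) N 3) (hx : d (mnr (gen F n)) N 3 x = 0) :
    ∃ y : EC (mnr (gen F n)) N 2, d (mnr (gen F n)) N 2 y = x :=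
  exact_of_cdLE (mnr (gen F n)) 2 (cdLE_two F n p) N 2 le_rfl x hx

end Groth.Agent.ResProp.EF.K348.ECThree
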