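import Mathlib.LinearAlgebra.Matrix.Adjugate
import Mathlib.LinearAlgebra.Matrix.Block
import Mathlib.LinearAlgebra.Matrix.ToLinearEquiv
import Mathlib.Algebra.Divisibility.Units
import Mathlib.RingTheory.Polynomial.UniqueFactorization
import Mathlib.Algebra.MvPolynomial.Division
import Mathlib.Algebra.MvPolynomial.NoZeroDivisors
import Mathlib.RingTheory.Coprime.Lemmas
import Mathlib.Algebra.CharP.Frobenius
import Mathlib.RingTheory.MvPolynomial.Homogeneous
import Mathlib.Tactic.LinearCombination

/-!
# Hilbert - Burch for matrices with relatively prime maximal minors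

`N : Matrix (Fin (n+1)) (Fin n) S`, `mnr N i = (-1)^i det (N without row i)`.
-/

set_option autoImplicit false
set_option linter.unusedSectionVars false

universe u v

open Matrix

namespace Groth.Agent.ResProp.EF.K348.HB

section general

variable {S : Type u} [CommRing S] {n : ℕ}

/-- The signed maximal minors. -/
def mnr (N : Matrix (Fin (n + 1)) (Fin n) S) (i : Fin (n + 1)) : S :=
  (-1) ^ (i : ℕ) * (N.submatrix i.succAbove id).det

/-- The square matrix with first column `v`. -/
def aug (v : Fin (n + 1) → S) (N : Matrix (Fin (n + 1)) (Fin n) S) : Matrix (Fin (n + 1)) (Fin (n + 1)) S :=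
  Matrix.of fun i => Fin.cons (v i) (N i)

@[simp] lemma aug_zero (v : Fin (n + 1) → S) (N : Matrix (Fin (n + 1)) (Fin n) S) (i : Fin (n + 1)) :
    aug v N i 0 = v i := rfl

@[simp] lemma aug_succ (v : Fin (n + 1) → S) (N : Matrix (Fin (n + 1)) (Fin n) S) (i : Fin (n + 1)) (j : Fin n) :
    aug v N i j.succ = N i j := rfl

lemma submatrix_aug (v : Fin (n + 1) → S) (N : Matrix (Fin (n + 1)) (Fin n) S) (i : Fin (n + 1)) :
    (aug v N).submatrix i.succAbove Fin.succ = N.submatrix i.succAbove id := rfl

lemma det_aug (v : Fin (n + 1) → S) (N : Matrix (Fin (n + 1)) (Fin n) S) :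
    (aug v N).det = ∑ i, mnr N i * v i := by
  rw [Matrix.det_succ_column_zero]
  refine Finset.sum_congr rfl fun i _ => ?_
  rw [aug_zero, submatrix_aug, mnr]
  ring

/-- The complex property. -/
theorem sum_mnr_mul (N : Matrix (Fin (n + 1)) (Fin n) S) (j : Fin n) : ∑ i, mnr N i * N i j = 0 := by
  rw [← det_aug (fun i => N i j) N]
  exact Matrix.det_zero_of_column_eq (Fin.succ_ne_zero j).symm fun _ => rfl

theorem sum_mnr_mulVec (N : Matrix (Fin (n + 1)) (Fin n) S) (c : Fin n → S) :
    ∑ i, mnr N i * (N.mulVec c) i = 0 := by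
  simp only [Matrix.mulVec, dotProduct, Finset.mul_sum]
  rw [Finset.sum_comm]
  refine Finset.sum_eq_zero fun j _ => ?_
  calc ∑ i, mnr N i * (N i j * c j) = (∑ i, mnr N i * N i j) * c j := by
        rw [Finset.sum_mul]; exact Finset.sum_congr rfl fun i _ => by ring
    _ = 0 := by rw [sum_mnr_mul, zero_mul]

lemma adjugate_aug_zero (v : Fin (n + 1) → S) (N : Matrix (Fin (n + 1)) (Fin n) S) (r : Fin (n + 1)) :
    (aug v N).adjugate 0 r = mnr N r := by
  rw [Matrix.adjugate_fin_succ_eq_det_submatrix, mnr]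
  have : ((0 : Fin (n + 1)).succAbove : Fin n → Fin (n + 1)) = Fin.succ := by
    ext i; simp
  rw [this, submatrix_aug]
  simp

/-- Every maximal minor maps the kernel into the image. -/
theorem exists_mulVec_eq_smul (N : Matrix (Fin (n + 1)) (Fin n) S) (v : Fin (n + 1) → S)
    (hv : ∑ i, mnr N i * v i = 0) (r : Fin (n + 1)) : ∃ a : Fin n → S, N.mulVec a = mnr N r • v := by
  refine ⟨fun j => - (aug v N).adjugate j.succ r, ?_⟩
  ext i
  have h1 : (aug v N * (aug v N).adjugate) i r = 0 := by
    rw [Matrix.mul_adjugate, det_aug, hv, zero_smul]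
    rfl
  rw [Matrix.mul_apply, Fin.sum_univ_succ, aug_zero, adjugate_aug_zero] at h1
  simp only [aug_succ] at h1
  simp only [Matrix.mulVec, dotProduct, mul_neg, Finset.sum_neg_distrib, Pi.smul_apply, smul_eq_mul]
  linear_combination -h1

lemma submatrix_mulVec_succAbove (N : Matrix (Fin (n + 1)) (Fin n) S) (r : Fin (n + 1)) (c : Fin n → S) (i : Fin n) :
    ((N.submatrix r.succAbove id).mulVec c) i = N.mulVec c (r.succAbove i) := rfl

theorem mulVec_injective [IsDomain S] (N : Matrix (Fin (n + 1)) (Fin n) S) (r : Fin (n + 1)) (hr : mnr N r ≠ 0) :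
    Function.Injective N.mulVec := by
  have hdet : (N.submatrix r.succAbove id).det ≠ 0 := by
    intro h
    apply hr
    rw [mnr, h, mul_zero]
  intro c c' h
  have h2 : (N.submatrix r.succAbove id).mulVec (c - c') = 0 := by
    rw [Matrix.mulVec_sub, sub_eq_zero]
    ext i
    rw [submatrix_mulVec_succAbove, submatrix_mulVec_succAbove, h]
  exact sub_eq_zero.mp (Matrix.eq_zero_of_mulVec_eq_zero hdet h2)

/-- **Hilbert - Burch.** -/
theorem exists_mulVec_eq [IsDomain S] [DecompositionMonoid S] (N : Matrix (Fin (n + 1)) (Fin n) S)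
    (r s : Fin (n + 1)) (hr : mnr N r ≠ 0) (hrs : IsRelPrime (mnr N r) (mnr N s)) (v : Fin (n + 1) → S)
    (hv : ∑ i, mnr N i * v i = 0) : ∃ c : Fin n → S, N.mulVec c = v := by
  obtain ⟨a, ha⟩ := exists_mulVec_eq_smul N v hv r
  obtain ⟨b, hb⟩ := exists_mulVec_eq_smul N v hv s
  have hab : mnr N s • a = mnr N r • b := by
    apply mulVec_injective N r hr
    rw [Matrix.mulVec_smul, Matrix.mulVec_smul, ha, hb, smul_smul, smul_smul, mul_comm]
  have hdvd : ∀ j, mnr N r ∣ a j := by
    intro j
    have h1 : mnr N r ∣ mnr N s * a j := by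
      have := congrFun hab j
      simp only [Pi.smul_apply, smul_eq_mul] at this
      rw [this]
      exact dvd_mul_right _ _
    exact hrs.dvd_of_dvd_mul_left h1
  choose c hc using hdvd
  refine ⟨c, ?_⟩
  have h2 : a = mnr N r • c := funext hc
  rw [h2, Matrix.mulVec_smul] at ha
  ext i
  exact mul_left_cancel₀ hr (congrFun ha i)

lemma mnr_map {S' : Type v} [CommRing S'] (f : S →+* S') (N : Matrix (Fin (n + 1)) (Fin n) S) (i : Fin (n + 1)) :
    mnr (N.map f) i = f (mnr N i) := by
  rw [mnr, mnr, map_mul, map_pow, map_neg, map_one, RingHom.map_det]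
  rfl

end general

section generic

open MvPolynomial

variable (k : Type u) [Field k] (n : ℕ)

/-- The generic `(n+1) x n` matrix. -/
noncomputable def gen : Matrix (Fin (n + 1)) (Fin n) (MvPolynomial (Fin (n + 1) × Fin n) k) :=
  Matrix.of fun i j => X (i, j)

/-- The bidiagonal specialization. -/
noncomputable def spc : MvPolynomial (Fin (n + 1) × Fin n) k →ₐ[k] MvPolynomial (Fin n ⊕ Fin n) k :=
  aeval fun p => if p.1 = p.2.castSucc then X (Sum.inl p.2) else
    if p.1 = p.2.succ then X (Sum.inr p.2) else 0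

lemma spc_gen (i : Fin (n + 1)) (j : Fin n) : spc k n (gen k n i j) =
    if i = j.castSucc then X (Sum.inl j) else if i = j.succ then X (Sum.inr j) else 0 := by
  rw [gen, Matrix.of_apply, spc, aeval_X]

lemma totalDegree_aeval_le {σ τ : Type*} (f : σ → MvPolynomial τ k) (hf : ∀ i, (f i).totalDegree ≤ 1)
    (p : MvPolynomial σ k) : (aeval f p).totalDegree ≤ p.totalDegree := by
  rw [aeval_def, eval₂_eq]
  refine totalDegree_finsetSum_le fun d hd => ?_
  refine (totalDegree_mul _ _).trans ?_
  rw [algebraMap_eq, totalDegree_C, zero_add]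
  refine (totalDegree_finsetProd _ _).trans ?_
  refine le_trans ?_ (le_totalDegree hd)
  rw [Finsupp.sum]
  refine Finset.sum_le_sum fun i _ => ?_
  refine (totalDegree_pow _ _).trans ?_
  calc d i * (f i).totalDegree ≤ d i * 1 := Nat.mul_le_mul_left _ (hf i)
    _ = d i := mul_one _

lemma totalDegree_spc_le (p : MvPolynomial (Fin (n + 1) × Fin n) k) : (spc k n p).totalDegree ≤ p.totalDegree := by
  refine totalDegree_aeval_le k _ (fun i => ?_) p
  split_ifs
  · rw [totalDegree_X]
  · rw [totalDegree_X]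
  · rw [totalDegree_zero]; exact Nat.zero_le _

lemma totalDegree_mnr_le (i : Fin (n + 1)) : (mnr (gen k n) i).totalDegree ≤ n := by
  rw [mnr]
  refine (totalDegree_mul _ _).trans ?_
  have h1 : ((-1 : MvPolynomial (Fin (n + 1) × Fin n) k) ^ (i : ℕ)).totalDegree = 0 := by
    rcases neg_one_pow_eq_or (MvPolynomial (Fin (n + 1) × Fin n) k) (i : ℕ) with h | h <;> rw [h] <;> simp
  rw [h1, zero_add, Matrix.det_apply']
  refine totalDegree_finsetSum_le fun σ _ => ?_
  refine (totalDegree_mul _ _).trans ?_
  have h2 : (((Equiv.Perm.sign σ : ℤ) : MvPolynomial (Fin (n + 1) × Fin n) k)).totalDegree = 0 := by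
    rcases Int.units_eq_one_or (Equiv.Perm.sign σ) with h | h <;> rw [h] <;> simp
  rw [h2, zero_add]
  refine (totalDegree_finsetProd _ _).trans ?_
  have h3 : ∀ j ∈ (Finset.univ : Finset (Fin n)),
      (((gen k n).submatrix i.succAbove id) (σ j) j).totalDegree ≤ 1 := by
    intro j _
    rw [Matrix.submatrix_apply, gen, Matrix.of_apply, totalDegree_X]
  refine (Finset.sum_le_sum h3).trans ?_
  simp

lemma spc_mnr_last : spc k n (mnr (gen k n) (Fin.last n)) = (-1) ^ n * ∏ j : Fin n, X (Sum.inl j) := by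
  have h : spc k n (mnr (gen k n) (Fin.last n)) = mnr ((gen k n).map (spc k n).toRingHom) (Fin.last n) :=
    (mnr_map (spc k n).toRingHom (gen k n) (Fin.last n)).symm
  rw [h, mnr, Fin.val_last, Matrix.det_of_isLowerTriangular]
  · congr 1
    refine Finset.prod_congr rfl fun j _ => ?_
    change spc k n (gen k n ((Fin.last n).succAbove j) j) = _
    rw [spc_gen, Fin.succAbove_last, if_pos rfl]
  · intro i j hij
    change spc k n (gen k n ((Fin.last n).succAbove i) j) = _
    have hij' : i < j := hij
    rw [spc_gen, Fin.succAbove_last, if_neg, if_neg]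
    · intro h1
      have h2 := congrArg Fin.val h1
      simp only [Fin.val_castSucc, Fin.val_succ] at h2
      omega
    · intro h1
      have h2 := congrArg Fin.val h1
      simp only [Fin.val_castSucc] at h2
      omega

lemma spc_mnr_zero : spc k n (mnr (gen k n) 0) = ∏ j : Fin n, X (Sum.inr j) := by
  have h : spc k n (mnr (gen k n) 0) = mnr ((gen k n).map (spc k n).toRingHom) 0 :=
    (mnr_map (spc k n).toRingHom (gen k n) 0).symm
  rw [h, mnr, Fin.val_zero, pow_zero, one_mul, Matrix.det_of_isUpperTriangular]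
  · refine Finset.prod_congr rfl fun j _ => ?_
    change spc k n (gen k n ((0 : Fin (n + 1)).succAbove j) j) = _
    rw [spc_gen, Fin.succAbove_zero, if_neg, if_pos rfl]
    intro h1
    have h2 := congrArg Fin.val h1
    simp only [Fin.val_castSucc, Fin.val_succ] at h2
    omega
  · intro i j hij
    have hij' : j < i := hij
    change spc k n (gen k n ((0 : Fin (n + 1)).succAbove i) j) = _
    rw [spc_gen, Fin.succAbove_zero, if_neg, if_neg]
    · intro h1
      have h2 := congrArg Fin.val h1
      simp only [Fin.val_succ] at h2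
      omega
    · intro h1
      have h2 := congrArg Fin.val h1
      simp only [Fin.val_castSucc, Fin.val_succ] at h2
      omega

lemma mnr_zero_ne_zero : mnr (gen k n) 0 ≠ 0 := by
  intro h
  have h1 := spc_mnr_zero k n
  rw [h, map_zero] at h1
  exact Finset.prod_ne_zero_iff.mpr (fun j _ => X_ne_zero _) h1.symm

lemma mnr_last_ne_zero : mnr (gen k n) (Fin.last n) ≠ 0 := by
  intro h
  have h1 := spc_mnr_last k n
  rw [h, map_zero] at h1
  exact mul_ne_zero (pow_ne_zero _ (neg_ne_zero.mpr one_ne_zero))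
    (Finset.prod_ne_zero_iff.mpr (fun j _ => X_ne_zero _)) h1.symm

lemma totalDegree_eq_zero_of_isUnit {σ : Type*} {p : MvPolynomial σ k} (hp : IsUnit p) : p.totalDegree = 0 := by
  obtain ⟨q, hq⟩ := hp.exists_right_inv
  have hp0 : p ≠ 0 := hp.ne_zero
  have hq0 : q ≠ 0 := by
    rintro rfl
    rw [mul_zero] at hq
    exact zero_ne_one hq
  have h1 := totalDegree_mul_of_isDomain hp0 hq0
  rw [hq, totalDegree_one] at h1
  omega

/-- The first and the last maximal minor of the generic matrix are relatively prime. -/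
theorem isRelPrime_mnr : IsRelPrime (mnr (gen k n) 0) (mnr (gen k n) (Fin.last n)) := by
  intro d h0 h1
  obtain ⟨e, he⟩ := h1
  have hd0 : d ≠ 0 := by
    rintro rfl
    exact mnr_last_ne_zero k n (by rw [he, zero_mul])
  have he0 : e ≠ 0 := by
    rintro rfl
    exact mnr_last_ne_zero k n (by rw [he, mul_zero])
  have hl := spc_mnr_last k n
  rw [he, map_mul] at hl
  have hu : IsUnit ((-1 : MvPolynomial (Fin n ⊕ Fin n) k) ^ n) := (isUnit_one.neg).pow n
  have hrel : IsRelPrime (∏ j : Fin n, (X (Sum.inr j) : MvPolynomial (Fin n ⊕ Fin n) k))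
      ((-1) ^ n * ∏ j : Fin n, X (Sum.inl j)) := by
    refine IsRelPrime.prod_left fun i _ => ?_
    refine IsRelPrime.mul_right (hu.isRelPrime_right) (IsRelPrime.prod_right fun j _ => ?_)
    refine (X_prime.irreducible.isRelPrime_iff_not_dvd).mpr fun h => ?_
    rw [X_dvd_X] at h
    exact absurd h (by simp)
  have hunit : IsUnit (spc k n d) := by
    refine hrel ?_ ?_
    · rw [← spc_mnr_zero]
      exact map_dvd (spc k n) h0
    · exact ⟨_, hl.symm⟩
  have hdeg0 := totalDegree_eq_zero_of_isUnit k hunit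
  have hn0 : spc k n d * spc k n e ≠ 0 := by
    rw [hl]
    exact mul_ne_zero hu.ne_zero (Finset.prod_ne_zero_iff.mpr (fun j _ => X_ne_zero _))
  have hdn : spc k n d ≠ 0 := left_ne_zero_of_mul hn0
  have hen : spc k n e ≠ 0 := right_ne_zero_of_mul hn0
  have hdegn : (spc k n d * spc k n e).totalDegree = n := by
    rw [hl, totalDegree_mul_of_isDomain hu.ne_zero (Finset.prod_ne_zero_iff.mpr (fun j _ => X_ne_zero _)),
      totalDegree_eq_zero_of_isUnit k hu, zero_add]
    have := (IsHomogeneous.prod (Finset.univ : Finset (Fin n))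
      (fun j => (X (Sum.inl j) : MvPolynomial (Fin n ⊕ Fin n) k)) (fun _ => 1)
      (fun j _ => isHomogeneous_X _ _)).totalDegree (Finset.prod_ne_zero_iff.mpr (fun j _ => X_ne_zero _))
    rw [this]
    simp
  rw [totalDegree_mul_of_isDomain hdn hen] at hdegn
  have h2 := totalDegree_mnr_le k n (Fin.last n)
  rw [he, totalDegree_mul_of_isDomain hd0 he0] at h2
  have h3 := totalDegree_spc_le k n d
  have h4 := totalDegree_spc_le k n e
  have h5 : d.totalDegree = 0 := by omega
  rw [totalDegree_eq_zero_iff_eq_C] at h5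
  have hc : coeff 0 d ≠ 0 := by
    intro h
    rw [h, map_zero] at h5
    exact hd0 h5
  rw [h5]
  exact (isUnit_iff_ne_zero.mpr hc).map C

end generic

section frobenius

open MvPolynomial

variable (k : Type u) [Field k] (n p : ℕ) [ExpChar k p] (s : ℕ)

/-- The matrix of the `q`-th powers of the variables, `q = p^s`. -/
noncomputable def genq : Matrix (Fin (n + 1)) (Fin n) (MvPolynomial (Fin (n + 1) × Fin n) k) :=
  Matrix.of fun i j => X (i, j) ^ p ^ s

lemma genq_eq : genq k n p s = (gen k n).map (iterateFrobenius (MvPolynomial (Fin (n + 1) × Fin n) k) p s) := by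
  ext i j
  rfl

theorem mnr_genq (i : Fin (n + 1)) : mnr (genq k n p s) i = mnr (gen k n) i ^ p ^ s := by
  rw [genq_eq, mnr_map]
  rfl

theorem isRelPrime_mnr_genq : IsRelPrime (mnr (genq k n p s) 0) (mnr (genq k n p s) (Fin.last n)) := by
  rw [mnr_genq, mnr_genq]
  exact (isRelPrime_mnr k n).pow

theorem mnr_genq_ne_zero : mnr (genq k n p s) 0 ≠ 0 := by
  rw [mnr_genq]
  exact pow_ne_zero _ (mnr_zero_ne_zero k n)

/-- The Frobenius powers of the generic Hilbert - Burch complex are exact. -/
theorem genq_exact (v : Fin (n + 1) → MvPolynomial (Fin (n + 1) × Fin n) k)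
    (hv : ∑ i, mnr (gen k n) i ^ p ^ s * v i = 0) : ∃ c, (genq k n p s).mulVec c = v :=
  exists_mulVec_eq (genq k n p s) 0 (Fin.last n) (mnr_genq_ne_zero k n p s) (isRelPrime_mnr_genq k n p s) v
    (by simpa only [mnr_genq] using hv)

theorem genq_injective : Function.Injective (genq k n p s).mulVec :=
  mulVec_injective _ 0 (mnr_genq_ne_zero k n p s)

theorem genq_complex (c : Fin n → MvPolynomial (Fin (n + 1) × Fin n) k) :
    ∑ i, mnr (gen k n) i ^ p ^ s * (genq k n p s).mulVec c i = 0 := by
  simpa only [mnr_genq] using sum_mnr_mulVec (genq k n p s) c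

end frobenius

end Groth.Agent.ResProp.EF.K348.HB
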